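import Groth.Agent.S0585
import Mathlib.RingTheory.Smooth.Pi
import Mathlib.RingTheory.Extension.Cotangent.BaseChange
import Mathlib.RingTheory.Kaehler.TensorProduct

/-!
Formal smoothness of ring maps descends along faithfully flat base change.
-/

set_option autoImplicit false

universe u

open TensorProduct

namespace Groth.Agent.FSDescent

attribute [local instance] Algebra.TensorProduct.rightAlgebra

variable (R : Type u) [CommRing R] (B : Type u) [CommRing B] [Algebra R B]

theorem formallySmooth_of_baseChange (T : Type u) [CommRing T] [Algebra R T] [Module.FaithfullyFlat R T]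
    [Algebra.FormallySmooth T (T ⊗[R] B)] : Algebra.FormallySmooth R B := by
  refine ⟨?_, ?_⟩
  · haveI : Module.FaithfullyFlat B (T ⊗[R] B) :=
      Module.FaithfullyFlat.of_linearEquiv B (B ⊗[R] T)
        (Algebra.TensorProduct.commRight R B T).symm.toLinearEquiv
    haveI : Module.Projective (T ⊗[R] B) ((T ⊗[R] B) ⊗[B] Ω[B⁄R]) :=
      Module.Projective.of_equiv (KaehlerDifferential.tensorKaehlerEquiv R T B (T ⊗[R] B)).symm
    exact Groth.Agent.S0585.result B (T ⊗[R] B) Ω[B⁄R]
  · haveI : Subsingleton (T ⊗[R] Algebra.H1Cotangent R B) :=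
      (Algebra.tensorH1CotangentOfFlat R B T).toEquiv.subsingleton
    exact Module.FaithfullyFlat.lTensor_reflects_triviality R T _

theorem formallySmooth_of_pi {ι : Type u} [Fintype ι] [DecidableEq ι] (T : ι → Type u) [∀ j, CommRing (T j)]
    [∀ j, Algebra R (T j)] [Module.FaithfullyFlat R (∀ j, T j)]
    (h : ∀ j, Algebra.FormallySmooth (T j) (T j ⊗[R] B)) : Algebra.FormallySmooth R B := by
  letI : ∀ j, Algebra (∀ k, T k) (T j) := fun j => (Pi.evalRingHom T j).toAlgebra
  haveI : ∀ j, IsScalarTower R (∀ k, T k) (T j) := fun j => IsScalarTower.of_algebraMap_eq fun x => rfl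
  haveI : ∀ j, Algebra.FormallySmooth (∀ k, T k) (T j) := fun j => by
    haveI : IsLocalization.Away (Function.update (β := T) 0 j 1) (T j) := by
      apply IsLocalization.away_of_isIdempotentElem_of_mul
      · ext k; by_cases h : k = j <;> aesop
      · intro x y
        constructor
        · intro e; ext k; by_cases h : k = j <;> aesop
        · intro e; simpa using! congr_fun e j
      · exact Function.surjective_eval _
    exact Algebra.FormallySmooth.of_isLocalization (Submonoid.powers (Function.update (β := T) 0 j 1))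
  haveI : ∀ j, Algebra.FormallySmooth (∀ k, T k) (T j ⊗[R] B) := fun j =>
    haveI := h j
    Algebra.FormallySmooth.comp (∀ k, T k) (T j) (T j ⊗[R] B)
  let e : (∀ k, T k) ⊗[R] B ≃ₐ[R] ∀ j, T j ⊗[R] B :=
    ((Algebra.TensorProduct.comm R (∀ k, T k) B).trans (Algebra.TensorProduct.piRight R R B T)).trans
      (AlgEquiv.piCongrRight fun j => Algebra.TensorProduct.comm R B (T j))
  have hj := this
  let e' : (∀ j, T j ⊗[R] B) ≃ₐ[∀ k, T k] (∀ k, T k) ⊗[R] B :=
    (AlgEquiv.ofRingEquiv (f := e.toRingEquiv) (fun t => by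
      funext j
      rfl)).symm
  haveI : Algebra.FormallySmooth (∀ k, T k) (∀ j, T j ⊗[R] B) :=
    (Algebra.FormallySmooth.pi_iff (R := ∀ k, T k) (fun j => T j ⊗[R] B)).2 hj
  haveI : Algebra.FormallySmooth (∀ k, T k) ((∀ k, T k) ⊗[R] B) := Algebra.FormallySmooth.of_equiv e'
  exact formallySmooth_of_baseChange R B (∀ k, T k)

end Groth.Agent.FSDescent
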