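import Groth.Agent.TorsorLift.Zariski
import Groth.Agent.FSDescent.Ring
import Mathlib.RingTheory.Flat.FaithfullyFlat.Algebra
import Groth.Prelude.Def_AlgSpCov

/-!
Formal smoothness of morphisms of algebraic spaces is fpqc local on the base.
-/

set_option autoImplicit false
set_option backward.isDefEq.respectTransparency false
set_option backward.isDefEq.respectTransparency.types false

universe u

open CategoryTheory CategoryTheory.Limits AlgebraicGeometry Opposite TensorProduct

namespace Groth.Agent.FSDescent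

open _root_.AlgSp Groth.Agent.ASp Groth.Agent.Inf Groth.Agent.TorsorLift

/-- A finite product of flat algebras hitting every prime is faithfully flat. -/
theorem faithfullyFlat_pi {R : Type u} [CommRing R] {ι : Type u} [Fintype ι] (T : ι → Type u) [∀ i, CommRing (T i)]
    [∀ i, Algebra R (T i)] [∀ i, Module.Flat R (T i)]
    (h : ∀ p : PrimeSpectrum R, ∃ i, p ∈ Set.range (PrimeSpectrum.comap (algebraMap R (T i)))) :
    Module.FaithfullyFlat R (∀ i, T i) := by
  classical
  haveI : Module.Flat R (∀ i, T i) :=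
    Module.Flat.of_linearEquiv (M := Π₀ i, T i) DFinsupp.linearEquivFunOnFintype.symm
  refine Module.FaithfullyFlat.of_comap_surjective fun p => ?_
  obtain ⟨i, q, hq⟩ := h p
  refine ⟨PrimeSpectrum.comap (Pi.evalRingHom T i) q, ?_⟩
  rw [← hq, ← PrimeSpectrum.comap_comp_apply]
  rfl

/-- A ring map with lifts after base change along a flat covering family is formally smooth. -/
theorem formallySmooth_of_lifts {R B : CommRingCat.{u}} (φ : R ⟶ B) {ι : Type u} [Finite ι]
    (T : ι → CommRingCat.{u}) (γ : ∀ j, R ⟶ T j) (hflat : ∀ j, Flat (Spec.map (γ j)))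
    (hcov : ∀ p : ↥(Spec R), ∃ j, p ∈ Set.range (Spec.map (γ j)))
    (hlift : ∀ (j : ι) (A : Type u) [CommRing A] (I : Ideal A), I ^ 2 = ⊥ →
      ∀ (a₀ : Spec (CommRingCat.of (A ⧸ I)) ⟶ Spec B) (b₀ : Spec (CommRingCat.of A) ⟶ Spec (T j)),
      Spec.map (CommRingCat.ofHom (Ideal.Quotient.mk I)) ≫ b₀ ≫ Spec.map (γ j) = a₀ ≫ Spec.map φ →
      ∃ u : Spec (CommRingCat.of A) ⟶ Spec B,
        Spec.map (CommRingCat.ofHom (Ideal.Quotient.mk I)) ≫ u = a₀ ∧
          u ≫ Spec.map φ = b₀ ≫ Spec.map (γ j)) :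
    letI := φ.hom.toAlgebra; Algebra.FormallySmooth R B := by
  classical
  cases nonempty_fintype ι
  letI := φ.hom.toAlgebra
  letI : ∀ j, Algebra R (T j) := fun j => (γ j).hom.toAlgebra
  haveI : ∀ j, Module.Flat R (T j) := fun j =>
    (HasRingHomProperty.Spec_iff (P := @Flat) (φ := γ j)).1 (hflat j)
  haveI : Module.FaithfullyFlat R (∀ j, T j) :=
    faithfullyFlat_pi (fun j => T j) hcov
  refine formallySmooth_of_pi R B (fun j => T j) fun j => ?_
  have hpb : IsPullback (Spec.map (CommRingCat.ofHom (Algebra.TensorProduct.includeRight (R := R) (A := T j) (B := B)).toRingHom))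
      (Spec.map (CommRingCat.ofHom (Algebra.TensorProduct.includeLeftRingHom (R := R) (A := T j) (B := B))))
      (Spec.map φ) (Spec.map (γ j)) :=
    (isPullback_SpecMap_of_isPushout _ _ _ _ (CommRingCat.isPushout_tensorProduct R (T j) B)).flip
  have key : MoreMor.IsFormallySmoothHom
      (Spec.map (CommRingCat.ofHom (Algebra.TensorProduct.includeLeftRingHom (R := R) (A := T j) (B := B)))) := by
    intro A _ I hI a b w
    obtain ⟨u, h₁, h₂⟩ := hlift j A I hI (a ≫ Spec.map (CommRingCat.ofHom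
        (Algebra.TensorProduct.includeRight (R := R) (A := T j) (B := B)).toRingHom)) b
      (by rw [reassoc_of% w, Category.assoc, hpb.w])
    refine ⟨hpb.lift u b h₂, ?_, hpb.lift_snd _ _ _⟩
    apply hpb.hom_ext
    · rw [Category.assoc, hpb.lift_fst, h₁]
    · rw [Category.assoc, hpb.lift_snd, w]
  convert! SmoothLiftLib.formallySmooth_of_spec_map _ key using 1
  exact Algebra.algebra_ext _ _ fun _ => rfl

variable {S : Scheme.{u}}

theorem isLocalOnBase_isFormallySmoothMor :
    IsLocalOnBase (S := S) IsFpqcCover IsFormallySmoothMor := by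
  intro ι Y Yi g hY hYi hτ X f hX Xi p q hXi hsq
  constructor
  · intro hf i sq
    obtain ⟨l, h₁, h₂⟩ := hf
      { A := sq.A
        I := sq.I
        sq_zero := sq.sq_zero
        str := sq.str
        top := sq.top ≫ q i
        bot := sq.bot ≫ g i
        comm := by rw [Category.assoc, (hsq i).w, ← Category.assoc, sq.comm, Category.assoc] }
    refine ⟨(hsq i).lift l sq.bot h₂, ?_, (hsq i).lift_snd _ _ _⟩
    apply (hsq i).hom_ext
    · rw [Category.assoc, (hsq i).lift_fst]; exact h₁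
    · rw [Category.assoc, (hsq i).lift_snd, sq.comm]
  · intro hp
    rw [isFormallySmoothMor_iff_locP hX hY]
    intro U V a b h ha hb e
    refine isFormallySmoothHom_of_locally h.left fun x => ?_
    obtain ⟨_, ⟨V₀, hV, rfl⟩, hxV, -⟩ := V.left.isBasis_affineOpens.exists_subset_of_mem_open
      (Set.mem_univ (h.left x)) isOpen_univ
    obtain ⟨_, ⟨U₀, hU, rfl⟩, hxU, hUV⟩ := U.left.isBasis_affineOpens.exists_subset_of_mem_open
      (show x ∈ (h.left ⁻¹ᵁ V₀ : U.left.Opens) from hxV) (h.left ⁻¹ᵁ V₀).isOpen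
    refine ⟨U₀, V₀, hU, hV, hUV, hxU, ?_⟩
    let Z : Over S := Over.mk (hV.fromSpec ≫ V.hom)
    let jV : Z ⟶ V := Over.homMk hV.fromSpec rfl
    obtain ⟨m, W, c, hWa, hcf, hcs, hl⟩ := hτ.2 Z
      (inferInstanceAs (IsAffine (Spec Γ(V.left, V₀)))) ((yon S).map jV ≫ b)
    haveI := hWa
    have hγ : ∀ j : ULift.{u} (Fin m), ∃ γ : Γ(V.left, V₀) ⟶ Γ((W j.down).left, ⊤),
        Spec.map γ = (W j.down).left.isoSpec.inv ≫ (c j.down).left :=
      fun j => Spec.map_surjective _
    choose γ hγ using hγ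
    refine formallySmooth_of_lifts (h.left.appLE V₀ U₀ hUV) (fun j : ULift.{u} (Fin m) => Γ((W j.down).left, ⊤)) γ
      (fun j => ?_) (fun z => ?_) ?_
    · rw [hγ]
      haveI := hcf j.down
      infer_instance
    · obtain ⟨j, w, hw⟩ := hcs z
      refine ⟨⟨j⟩, (W j).left.isoSpec.hom w, ?_⟩
      rw [hγ, ← Scheme.Hom.comp_apply, Iso.hom_inv_id_assoc]
      exact hw
    intro j A _ I hI a₀ b₀ hab
    let b₁ : Spec (CommRingCat.of A) ⟶ Z.left := b₀ ≫ Spec.map (γ j)
    let str : Spec (CommRingCat.of A) ⟶ S := b₁ ≫ Z.hom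
    obtain ⟨i, l, hli⟩ := hl j.down
    let w₁ : TT str ⟶ W j.down := Over.homMk (b₀ ≫ (W j.down).left.isoSpec.inv) (by
      show (b₀ ≫ (W j.down).left.isoSpec.inv) ≫ (W j.down).hom = (b₀ ≫ Spec.map (γ j)) ≫ Z.hom
      rw [hγ, Category.assoc, Category.assoc, Category.assoc, Over.w (c j.down)])
    let v : TT str ⟶ V := w₁ ≫ c j.down ≫ jV
    have hvl : v.left = b₁ ≫ hV.fromSpec := by
      show (b₀ ≫ (W j.down).left.isoSpec.inv) ≫ (c j.down).left ≫ hV.fromSpec =
        (b₀ ≫ Spec.map (γ j)) ≫ hV.fromSpec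
      rw [hγ]
      simp only [Category.assoc]
    let u₀ : T0 I str ⟶ U := Over.homMk (a₀ ≫ hU.fromSpec) (by
      show (a₀ ≫ hU.fromSpec) ≫ U.hom =
        Spec.map (CommRingCat.ofHom (Ideal.Quotient.mk I)) ≫ (b₀ ≫ Spec.map (γ j)) ≫ hV.fromSpec ≫ V.hom
      rw [← Category.assoc (Spec.map _), hab, ← Over.w h, Category.assoc, Category.assoc,
        ← Category.assoc hU.fromSpec, ← hV.SpecMap_appLE_fromSpec h.left hU hUV, Category.assoc])
    have huv : u₀ ≫ h = qI I str ≫ v := by
      apply Over.OverMorphism.ext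
      show (a₀ ≫ hU.fromSpec) ≫ h.left = Spec.map (CommRingCat.ofHom (Ideal.Quotient.mk I)) ≫ v.left
      rw [hvl]
      show _ = Spec.map (CommRingCat.ofHom (Ideal.Quotient.mk I)) ≫ (b₀ ≫ Spec.map (γ j)) ≫ hV.fromSpec
      rw [← Category.assoc (Spec.map _), hab, Category.assoc, Category.assoc,
        hV.SpecMap_appLE_fromSpec h.left hU hUV]
    have hbot : ((yon S).map w₁ ≫ l) ≫ g i = (yon S).map v ≫ b := by
      simp only [v, Functor.map_comp, Category.assoc, hli]
    have htop : ((yon S).map u₀ ≫ a) ≫ f = ((yon S).map (qI I str) ≫ (yon S).map w₁ ≫ l) ≫ g i := by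
      rw [Category.assoc, e, ← Functor.map_comp_assoc, huv, Functor.map_comp, Category.assoc,
        Category.assoc, hbot]
    obtain ⟨l₁, hl1, hl2⟩ : ∃ l₁ : (yon S).obj (TT str) ⟶ Xi i,
        (yon S).map (qI I str) ≫ l₁ = (hsq i).lift ((yon S).map u₀ ≫ a) _ htop ∧
          l₁ ≫ p i = (yon S).map w₁ ≫ l :=
      hp i
        { A := A
          I := I
          sq_zero := hI
          str := str
          top := (hsq i).lift ((yon S).map u₀ ≫ a) _ htop
          bot := (yon S).map w₁ ≫ l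
          comm := (hsq i).lift_snd _ _ _ }
    have hm1 : (yon S).map (qI I str) ≫ l₁ ≫ q i = (yon S).map u₀ ≫ a := by
      rw [← Category.assoc, hl1, (hsq i).lift_fst]
    have hm2 : (l₁ ≫ q i) ≫ f = (yon S).map v ≫ b := by
      rw [Category.assoc, (hsq i).w, ← Category.assoc, hl2, hbot]
    obtain ⟨u, ⟨hu1, hu2⟩, -⟩ := existsUnique_chart_lift hI ha (l₁ ≫ q i) u₀ hm1.symm
    obtain ⟨v', -, hv'⟩ := existsUnique_chart_lift hI hb ((yon S).map v ≫ b) (qI I str ≫ v)
      (by rw [Functor.map_comp, Category.assoc])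
    have huh : u ≫ h = v := (hv' (u ≫ h) ⟨by rw [← Category.assoc, hu1, huv],
      by rw [Functor.map_comp, Category.assoc, ← e, ← Category.assoc, hu2, hm2]⟩).trans
        (hv' v ⟨rfl, rfl⟩).symm
    have hq1 : Spec.map (CommRingCat.ofHom (Ideal.Quotient.mk I)) ≫ u.left = a₀ ≫ hU.fromSpec :=
      congrArg CommaMorphism.left hu1
    have hrange : Set.range u.left ⊆ Set.range hU.fromSpec := by
      rintro _ ⟨t, rfl⟩
      obtain ⟨t', rfl⟩ := FEtHom.surjective_quotient A I hI t
      refine ⟨a₀ t', ?_⟩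
      rw [← Scheme.Hom.comp_apply, ← hq1]
      rfl
    refine ⟨IsOpenImmersion.lift hU.fromSpec u.left hrange, ?_, ?_⟩
    · rw [← cancel_mono hU.fromSpec, Category.assoc, IsOpenImmersion.lift_fac, hq1]
    · rw [← cancel_mono hV.fromSpec, Category.assoc, hV.SpecMap_appLE_fromSpec h.left hU hUV,
        IsOpenImmersion.lift_fac_assoc, Category.assoc]
      have h3 : u.left ≫ h.left = v.left := congrArg CommaMorphism.left huh
      rw [h3, hvl, Category.assoc]

end Groth.Agent.FSDescent
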